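import Cfsg.Agent.Lib.J2Spectrum.Checks

/-!
Kernel check: the centraliser of a representative of order 3 in the Hall-Janko group.
-/

set_option autoImplicit false
set_option maxRecDepth 100000
set_option Elab.async false

namespace CfsgLib.J2Spectrum

open CfsgLib.Golay CfsgLib.Golay.J2 CfsgLib.Golay.Bsgs

theorem cent3_1_0 : centP O (reps3.getD 1 0) pts good3 [] [] (part 0) = true := by
  decide +kernel

theorem cent3_1_1 : centP O (reps3.getD 1 0) pts good3 [] [] (part 1) = true := by
  decide +kernel

theorem cent3_1_2 : centP O (reps3.getD 1 0) pts good3 [] [] (part 2) = true := by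
  decide +kernel

theorem cent3_1_3 : centP O (reps3.getD 1 0) pts good3 [] [] (part 3) = true := by
  decide +kernel

theorem cent3_1 : centP O (reps3.getD 1 0) pts good3 [] [] levels = true :=
  centP_split O 25 4 (by norm_num) (by decide +kernel) fun a ha => by
    interval_cases a
    exacts [cent3_1_0, cent3_1_1, cent3_1_2, cent3_1_3]

end CfsgLib.J2Spectrum
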