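import Cfsg.Agent.Lib.Golay.Bsgs

/-!
A centraliser search along a stabiliser chain with a predicate at the leaves: every element
commuting with a given code has a code satisfying the predicate.
-/

set_option autoImplicit false

namespace CfsgLib.J2Spectrum

open CfsgLib.Golay.Bsgs

variable {G : Type*} [Group G] {α : Type*} [MulAction G α] (O : Ops G α)

/-- The product of `n` copies of a code. -/
def powC (q : ℕ) : ℕ → ℕ
  | 0 => O.one
  | n + 1 => O.mul q (powC q n)

/-- Equality on the listed points. -/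
def eqOn (pts : List ℕ) (a b : ℕ) : Bool := pts.all fun p => O.img a p == O.img b p

theorem powC_spec {q : ℕ} (hq : O.ok q = true) : ∀ n, O.ok (powC O q n) = true ∧
    O.val (powC O q n) = O.val q ^ n
  | 0 => ⟨O.ok_one, by rw [powC, O.val_one, pow_zero]⟩
  | n + 1 => by
    obtain ⟨h1, h2⟩ := powC_spec hq n
    exact ⟨O.ok_mul _ _ hq h1, by rw [powC, O.val_mul _ _ hq h1, h2, pow_succ']⟩

theorem eqOn_of_val_eq {pts : List ℕ} (hpts : ∀ p ∈ pts, O.ptOk p = true) {a b : ℕ}
    (ha : O.ok a = true) (hb : O.ok b = true) (h : O.val a = O.val b) : eqOn O pts a b = true := by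
  simp only [eqOn, List.all_eq_true, beq_iff_eq]
  intro p hp
  obtain ⟨a1, a2⟩ := O.pt_img a p ha (hpts p hp)
  obtain ⟨b1, b2⟩ := O.pt_img b p hb (hpts p hp)
  exact O.pt_inj _ _ a2 b2 (a1.symm.trans (by rw [h]; exact b1))

/-- The image under a word of codes. -/
def imgW (qs : List ℕ) (p : ℕ) : ℕ := qs.foldr (fun q r => O.img q r) p

/-- The code of a word of codes. -/
def mulW (qs : List ℕ) : ℕ := qs.foldl O.mul O.one

theorem mulW_snoc (qs : List ℕ) (t : ℕ) : mulW O (qs ++ [t]) = O.mul (mulW O qs) t := by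
  simp [mulW]

theorem mulW_spec : ∀ qs : List ℕ, (∀ q ∈ qs, O.ok q = true) →
    O.ok (mulW O qs) = true ∧ O.val (mulW O qs) = (qs.map O.val).prod := by
  intro qs
  induction qs using List.reverseRecOn with
  | nil => intro _; simp [mulW, O.ok_one, O.val_one]
  | append_singleton qs t ih =>
    intro h
    obtain ⟨h1, h2⟩ := ih fun q hq => h q (List.mem_append.2 (Or.inl hq))
    have ht := h t (by simp)
    rw [mulW_snoc]
    exact ⟨O.ok_mul _ _ h1 ht, by rw [O.val_mul _ _ h1 ht, h2]; simp⟩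

theorem imgW_spec : ∀ qs : List ℕ, (∀ q ∈ qs, O.ok q = true) → ∀ p, O.ptOk p = true →
    (qs.map O.val).prod • O.pt p = O.pt (imgW O qs p) ∧ O.ptOk (imgW O qs p) = true
  | [], _, p, hp => by simp [imgW, hp]
  | q :: qs, h, p, hp => by
    obtain ⟨h1, h2⟩ := imgW_spec qs (fun r hr => h r (List.mem_cons_of_mem _ hr)) p hp
    obtain ⟨h3, h4⟩ := O.pt_img q _ (h q List.mem_cons_self) h2
    simp only [List.map_cons, List.prod_cons, mul_smul, h1, h3]
    exact ⟨rfl, h4⟩

theorem imgW_eq {qs : List ℕ} (h : ∀ q ∈ qs, O.ok q = true) {p : ℕ} (hp : O.ptOk p = true) :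
    imgW O qs p = O.img (mulW O qs) p := by
  obtain ⟨h1, h2⟩ := imgW_spec O qs h p hp
  obtain ⟨h3, h4⟩ := O.pt_img _ p (mulW_spec O qs h).1 hp
  refine O.pt_inj _ _ h2 h4 ?_
  rw [← h1, ← h3, (mulW_spec O qs h).2]

/-- Search for the elements commuting with `x`: a surviving word fails to commute at a witness
point or satisfies the predicate. -/
def centP (x : ℕ) (pts : List ℕ) (good : ℕ → Bool) : List ℕ → List ℕ → List Lvl → Bool
  | _, qs, [] => (pts.any fun p => O.ptOk p && O.ptOk (O.img x p) &&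
        !(imgW O qs (O.img x p) == O.img x (imgW O qs p))) ||
      good (mulW O qs)
  | bs, qs, l :: ls =>
    l.reps.all fun t =>
      !((bs ++ [l.base]).all fun bi => (bs ++ [l.base]).all fun bj =>
          !(O.img x bi == bj) || imgW O (qs ++ [t]) bj == O.img x (imgW O (qs ++ [t]) bi)) ||
        centP x pts good (bs ++ [l.base]) (qs ++ [t]) ls

theorem centP_sound [Finite G] {x : ℕ} (hx : O.ok x = true) {pts : List ℕ} {good : ℕ → Bool} :
    ∀ {bs qs : List ℕ} {ls : List Lvl}, (∀ b ∈ bs, O.ptOk b = true) →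
      (∀ q ∈ qs, O.ok q = true) →
      check O bs ls = true → centP O x pts good bs qs ls = true →
      ∀ g : G, g * O.val x = O.val x * g → (O.val (mulW O qs))⁻¹ * g ∈ grp O ls →
      ∃ r, O.ok r = true ∧ good r = true ∧ g = O.val r
  | bs, qs, [], _, hqs, _, hcc, g, hcomm, hg => by
    simp only [centP, Bool.or_eq_true, List.any_eq_true,
      Bool.and_eq_true, Bool.not_eq_true', beq_eq_false_iff_ne] at hcc
    have h : grp O [] = ⊥ := by simp [grp, allGens]
    have hq := (mulW_spec O qs hqs).1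
    rw [h, Subgroup.mem_bot, inv_mul_eq_one] at hg
    rcases hcc with ⟨p, -, ⟨hp, hp'⟩, hne⟩ | hcc
    · exfalso
      rw [imgW_eq O hqs hp', imgW_eq O hqs hp] at hne
      obtain ⟨hx1, hx2⟩ := O.pt_img x p hx hp
      obtain ⟨hq1, hq2⟩ := O.pt_img (mulW O qs) p hq hp
      refine hne (O.pt_inj _ _ (O.pt_img _ _ hq hx2).2 (O.pt_img x _ hx hq2).2 ?_)
      rw [← (O.pt_img _ _ hq hx2).1, ← (O.pt_img x _ hx hq2).1, ← hx1, ← hq1, ← mul_smul,
        ← mul_smul, hg, hcomm]
    · exact ⟨_, hq, hcc, hg.symm⟩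
  | bs, qs, l :: ls, hbs, hqs, hc, hcc, g, hcomm, hg => by
    have hq := (mulW_spec O qs hqs).1
    obtain ⟨-, -, -, -, hdec⟩ := spec O hbs hc
    obtain ⟨t, ht, h, hh, e⟩ := hdec l ls rfl _ hg
    simp only [check, Bool.and_eq_true, decide_eq_true_eq, List.all_eq_true] at hc
    obtain ⟨⟨⟨⟨⟨⟨⟨⟨hb, -⟩, hreps⟩, -⟩, -⟩, -⟩, -⟩, -⟩, hrec⟩ := hc
    have hbs' : ∀ f ∈ bs ++ [l.base], O.ptOk f = true := by
      intro f hf
      rcases List.mem_append.1 hf with hf | hf
      · exact hbs f hf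
      · rw [List.mem_singleton.1 hf]; exact hb
    have hqs' : ∀ f ∈ qs ++ [t], O.ok f = true := by
      intro f hf
      rcases List.mem_append.1 hf with hf | hf
      · exact hqs f hf
      · rw [List.mem_singleton.1 hf]; exact hreps t ht
    have hF := (spec O hbs' hrec).1
    have hg' : (O.val (mulW O (qs ++ [t])))⁻¹ * g = h := by
      rw [mulW_snoc, O.val_mul _ _ hq (hreps t ht), mul_inv_rev, mul_assoc, e,
        inv_mul_cancel_left]
    have hact : ∀ f ∈ bs ++ [l.base], g • O.pt f = O.pt (imgW O (qs ++ [t]) f) ∧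
        O.ptOk (imgW O (qs ++ [t]) f) = true := by
      intro f hf
      obtain ⟨h1, h2⟩ := imgW_spec O _ hqs' f (hbs' f hf)
      rw [inv_mul_eq_iff_eq_mul.1 hg', mul_smul, hF h hh f hf, (mulW_spec O _ hqs').2, h1]
      exact ⟨rfl, h2⟩
    simp only [centP, List.all_eq_true, Bool.or_eq_true, Bool.not_eq_true'] at hcc
    rcases hcc t ht with hbad | hgood
    · exfalso
      rw [List.all_eq_false] at hbad
      obtain ⟨bi, hbi, hbad⟩ := hbad
      simp only [List.all_eq_true, Bool.or_eq_true, Bool.not_eq_true', beq_eq_false_iff_ne,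
        beq_iff_eq, not_forall, not_or, not_not] at hbad
      obtain ⟨bj, hbj, hij, hne⟩ := hbad
      obtain ⟨i1, i2⟩ := hact bi hbi
      obtain ⟨j1, j2⟩ := hact bj hbj
      refine hne (O.pt_inj _ _ j2 (O.pt_img x _ hx i2).2 ?_)
      rw [← j1, ← hij, ← (O.pt_img x bi hx (hbs' bi hbi)).1, ← mul_smul, hcomm, mul_smul,
        i1, (O.pt_img x _ hx i2).1]
    · exact centP_sound hx hbs' hqs' hrec hgood g hcomm (hg' ▸ hh)

theorem centP_split {x : ℕ} {pts : List ℕ} {good : ℕ → Bool} {bs qs : List ℕ} {l : Lvl}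
    {ls : List Lvl} (k n : ℕ) (hk : 0 < k) (hlen : l.reps.length ≤ k * n)
    (h : ∀ a < n, centP O x pts good bs qs
      ({ l with reps := (l.reps.drop (k * a)).take k } :: ls) = true) :
    centP O x pts good bs qs (l :: ls) = true := by
  simp only [centP, List.all_eq_true] at h ⊢
  intro t ht
  obtain ⟨i, hi, rfl⟩ := List.getElem_of_mem ht
  have hdm := Nat.div_add_mod i k
  have hlt : i % k < k := Nat.mod_lt _ hk
  refine h (i / k) (Nat.div_lt_of_lt_mul (by omega)) _ (List.mem_iff_getElem.2 ⟨i % k, ?_, ?_⟩)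
  · simp only [List.length_take, List.length_drop]
    omega
  · simp only [List.getElem_take, List.getElem_drop, hdm]

end CfsgLib.J2Spectrum
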