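import Cfsg.Agent.Lib.Golay.J2
import Cfsg.Agent.Lib.J2Spectrum.Search
import Cfsg.Agent.Lib.J2Spectrum.Data

/-!
Kernel checks for the element orders of the Hall-Janko group on 100 points.
-/

set_option autoImplicit false
set_option maxRecDepth 100000

namespace CfsgLib.J2Spectrum

open CfsgLib.Golay CfsgLib.Golay.J2 CfsgLib.Golay.Bsgs

/-- The points. -/
def pts : List ℕ := List.range 100

/-- The code is trivial. -/
noncomputable def triv (q : ℕ) : Bool := eqOn O pts q O.one

/-- No order four and no order six. -/
noncomputable def good5 (q : ℕ) : Bool :=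
  (!triv (powC O q 4) || triv (powC O q 2)) &&
    (!triv (powC O q 6) || (triv (powC O q 2) || triv (powC O q 3)))

/-- No order eight. -/
noncomputable def good3 (q : ℕ) : Bool := !triv (powC O q 8) || triv (powC O q 4)

/-- A part of the search. -/
noncomputable def part (a : ℕ) : List Lvl :=
  { lvl0 with reps := (lvl0.reps.drop (25 * a)).take 25 } :: levels.tail

/-- A listed subgroup with exponent `e`. -/
noncomputable def sylCheck (gidx : List (List ℕ)) (gs l : List ℕ) (par : List (ℕ × ℕ))
    (tab : List (List ℕ)) (e : ℕ) : Bool :=
  (List.range gs.length).all (fun j => prodReps O levels (gidx.getD j []) == gs.getD j 0) &&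
  decide (l.head? = some O.one) && l.all O.ok &&
  decide (par.length + 1 = l.length) &&
  (List.range par.length).all (fun k =>
    let c := par.getD k (0, 0)
    decide (c.1 < gs.length ∧ c.2 ≤ k) &&
      l.getD (k + 1) O.one == O.mul (gs.getD c.1 O.one) (l.getD c.2 O.one)) &&
  (List.range gs.length).all (fun j => (List.range l.length).all fun i =>
    decide ((tab.getD j []).getD i 0 < l.length) &&
      O.mul (gs.getD j O.one) (l.getD i O.one) == l.getD ((tab.getD j []).getD i 0) O.one) &&
  decide (l.map fun c => pts.map fun p => O.img c p).Nodup &&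
  l.all fun c => triv (powC O c e)

theorem syl2_ok : sylCheck gens2 gcode2 list2 par2 tab2 8 = true := by decide +kernel

theorem syl3_ok : sylCheck gens3 gcode3 list3 par3 tab3 3 = true := by decide +kernel

theorem syl5_ok : sylCheck gens5 gcode5 list5 par5 tab5 5 = true := by decide +kernel

/-- The conjugation certificates. -/
noncomputable def conjCheck (l reps : List ℕ) (certs : List (ℕ × ℕ × ℕ × List ℕ)) : Bool :=
  decide (certs.length + 1 = l.length) && reps.all O.ok &&
  (List.range certs.length).all fun k =>
    let c := certs.getD k (0, 0, 0, [])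
    let r := reps.getD c.1 O.one
    let h := prodReps O levels c.2.2.2
    decide (c.1 < reps.length) && O.mul h (l.getD (k + 1) O.one) == O.mul (powC O r c.2.1) h &&
      eqOn O pts (powC O r (c.2.1 * c.2.2.1)) r

theorem conj3_ok : conjCheck list3 reps3 certs3 = true := by decide +kernel

theorem conj5_ok : conjCheck list5 reps5 certs5 = true := by decide +kernel

/-- The check of the witnesses. -/
noncomputable def witCheck : Bool :=
  witnesses.all fun w =>
    let q := prodReps O levels w.2
    eqOn O pts (powC O q w.1) O.one && eqOn O pts (O.mul q O.one) q && decide (0 < w.1) &&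
      (List.range w.1).all fun m => m.beq 0 || !triv (powC O q m)

theorem wit_ok : witCheck = true ∧
    witnesses.map (·.1) = [1, 2, 3, 4, 5, 6, 7, 8, 10, 12, 15] := by decide +kernel

end CfsgLib.J2Spectrum
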