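import Cfsg.Agent.Lib.J2Spectrum.Cent5a
import Cfsg.Agent.Lib.J2Spectrum.Cent5b
import Cfsg.Agent.Lib.J2Spectrum.Cent3a
import Cfsg.Agent.Lib.J2Spectrum.Cent3b
import Cfsg.Agent.Lib.Ico.J2
import Cfsg.Agent.Lib.Spectrum.S8Twins

/-!
The element orders of the Hall-Janko group are those of the symmetric group of degree eight.
-/

set_option autoImplicit false
set_option maxRecDepth 100000

namespace CfsgLib.J2Spectrum

open CfsgLib.Golay CfsgLib.Golay.J2 CfsgLib.Golay.Bsgs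

theorem pts_ok : ∀ p ∈ pts, O.ptOk p = true := by
  have h : pts.all O.ptOk = true := by decide +kernel
  simpa [List.all_eq_true] using h

theorem val_eq_of_eqOn {a b : ℕ} (ha : O.ok a = true) (hb : O.ok b = true)
    (h : eqOn O pts a b = true) : O.val a = O.val b := by
  refine Equiv.ext fun i => ?_
  simp only [eqOn, List.all_eq_true, beq_iff_eq] at h
  have hi : i.val ∈ pts := List.mem_range.2 i.isLt
  have e1 := (O.pt_img a _ ha (pts_ok _ hi)).1
  have e2 := (O.pt_img b _ hb (pts_ok _ hi)).1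
  rw [pt_eq i.isLt, h _ hi, ← e2, pt_eq i.isLt] at e1
  exact e1

theorem triv_iff {q : ℕ} (hq : O.ok q = true) (n : ℕ) :
    triv (powC O q n) = true ↔ O.val q ^ n = 1 := by
  obtain ⟨h1, h2⟩ := powC_spec O hq n
  constructor
  · intro h
    rw [← h2, val_eq_of_eqOn h1 O.ok_one h, O.val_one]
  · intro h
    exact eqOn_of_val_eq O pts_ok h1 O.ok_one (by rw [h2, h, O.val_one])

theorem prodReps_mem (is : List ℕ) :
    O.ok (prodReps O levels is) = true ∧ O.val (prodReps O levels is) ∈ grpJ2 :=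
  levels_spec.2.2.1 is

/-- What a passing check of a listed subgroup gives. -/
theorem syl_spec {gidx : List (List ℕ)} {gs l : List ℕ} {par : List (ℕ × ℕ)}
    {tab : List (List ℕ)} {e : ℕ} (hc : sylCheck gidx gs l par tab e = true) :
    ∃ S : Subgroup (Equiv.Perm (Fin 100)), S ≤ grpJ2 ∧ Nat.card S = l.length ∧
      (∀ x ∈ S, x ^ e = 1) ∧ ∀ x ∈ S, ∃ k, k < l.length ∧ x = O.val (l.getD k O.one) := by
  simp only [sylCheck, Bool.and_eq_true, decide_eq_true_eq, List.all_eq_true, List.mem_range,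
    beq_iff_eq] at hc
  obtain ⟨⟨⟨⟨⟨⟨⟨hgs, hhead⟩, hl⟩, hlen⟩, hpar⟩, htab⟩, hnd⟩, hexp⟩ := hc
  have hg : ∀ s ∈ gs, O.ok s = true ∧ O.val s ∈ grpJ2 := by
    intro s hs
    obtain ⟨j, hj, rfl⟩ := List.getElem_of_mem hs
    have := hgs j hj
    rw [List.getD_eq_getElem gs 0 hj] at this
    rw [← this]
    exact prodReps_mem _
  have h0 : l.getD 0 O.one = O.one := by
    cases l with
    | nil => rfl
    | cons a as => simpa using hhead
  set X : Set (Equiv.Perm (Fin 100)) := {x | ∃ k, k < l.length ∧ x = O.val (l.getD k O.one)}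
  set S := Subgroup.closure {x | ∃ s ∈ gs, O.val s = x}
  have h1 : (S : Set (Equiv.Perm (Fin 100))) ⊆ X := by
    refine closure_le_of_left_mul ⟨0, by omega, by rw [h0, O.val_one]⟩ ?_
    rintro _ ⟨s, hs, rfl⟩ _ ⟨i, hi, rfl⟩
    obtain ⟨j, hj, rfl⟩ := List.getElem_of_mem hs
    obtain ⟨hlt, heq⟩ := htab j hj i hi
    refine ⟨_, hlt, ?_⟩
    rw [← heq, List.getD_eq_getElem gs O.one hj,
      O.val_mul _ _ (hg _ (List.getElem_mem hj)).1 (getD_ok O hl _)]
  have h2 : ∀ k, k < l.length → O.val (l.getD k O.one) ∈ S := by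
    intro k
    induction k using Nat.strong_induction_on with
    | h k ih =>
      intro hk
      rcases k with _ | k
      · rw [h0, O.val_one]; exact Subgroup.one_mem _
      · obtain ⟨⟨hp1, hp2⟩, hp3⟩ := hpar k (by omega)
        rw [hp3, O.val_mul _ _ (by rw [List.getD_eq_getElem _ _ hp1]; exact (hg _ (List.getElem_mem hp1)).1)
          (getD_ok O hl _)]
        refine Subgroup.mul_mem _ (Subgroup.subset_closure ⟨_, ?_, rfl⟩) (ih _ (by omega) (by omega))
        rw [List.getD_eq_getElem _ _ hp1]; exact List.getElem_mem hp1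
  refine ⟨S, (Subgroup.closure_le _).2 fun x ⟨s, hs, hx⟩ => hx ▸ (hg s hs).2, ?_, ?_,
    fun x hx => h1 hx⟩
  · symm
    rw [← Nat.card_fin l.length]
    refine Nat.card_eq_of_bijective (fun k : Fin l.length => (⟨_, h2 k.val k.isLt⟩ : S)) ⟨?_, ?_⟩
    · intro i j h
      have h' : O.val (l.getD i.val O.one) = O.val (l.getD j.val O.one) := congrArg Subtype.val h
      rw [List.getD_eq_getElem _ _ i.isLt, List.getD_eq_getElem _ _ j.isLt] at h'
      have h'' := eqOn_of_val_eq O pts_ok (hl _ (List.getElem_mem _)) (hl _ (List.getElem_mem _)) h'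
      simp only [eqOn, List.all_eq_true, beq_iff_eq] at h''
      apply Fin.ext
      refine (hnd.getElem_inj_iff (i := i.val) (j := j.val) (hi := by simp) (hj := by simp)).1 ?_
      simp only [List.getElem_map]
      exact List.map_congr_left h''
    · rintro ⟨x, hx⟩
      obtain ⟨k, hk, rfl⟩ := h1 hx
      exact ⟨⟨k, hk⟩, rfl⟩
  · intro x hx
    obtain ⟨k, hk, rfl⟩ := h1 hx
    refine (triv_iff (getD_ok O hl _) e).1 (hexp _ ?_)
    rw [List.getD_eq_getElem _ _ hk]; exact List.getElem_mem hk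

theorem sylow_conj {p v : ℕ} (hp : p.Prime) (hv : ¬ p ^ (v + 1) ∣ 604800)
    {S : Subgroup (Equiv.Perm (Fin 100))} (hS : S ≤ grpJ2) (hc : Nat.card S = p ^ v)
    {g : Equiv.Perm (Fin 100)} (hg : g ∈ grpJ2) {k : ℕ} (hk : g ^ p ^ k = 1) :
    ∃ h ∈ grpJ2, h * g * h⁻¹ ∈ S := by
  haveI : Fact p.Prime := ⟨hp⟩
  have hcH : Nat.card (S.subgroupOf grpJ2) = p ^ v := by
    rw [Nat.card_congr (Subgroup.subgroupOfEquivOfLe hS).toEquiv, hc]
  obtain ⟨P, hP⟩ := (IsPGroup.of_card hcH).exists_le_sylow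
  have hPS : (P : Subgroup grpJ2) = S.subgroupOf grpJ2 := by
    refine (Subgroup.eq_of_le_of_card_ge hP ?_).symm
    obtain ⟨w, hw⟩ := IsPGroup.iff_card.1 P.2
    rw [hcH, hw]
    refine Nat.pow_le_pow_right hp.pos (Nat.not_lt.1 fun hlt => hv ?_)
    refine (pow_dvd_pow p hlt).trans ?_
    rw [← hw, ← card_grpJ2]
    exact Subgroup.card_subgroup_dvd_card _
  let g' : grpJ2 := ⟨g, hg⟩
  have hgo : orderOf g' ∣ p ^ k := orderOf_dvd_of_pow_eq_one (Subtype.ext hk)
  obtain ⟨j, -, hj⟩ := (Nat.dvd_prime_pow hp).1 hgo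
  obtain ⟨Q, hQ⟩ := (IsPGroup.of_card ((Nat.card_zpowers g').trans hj)).exists_le_sylow
  obtain ⟨a, ha⟩ := MulAction.exists_smul_eq grpJ2 Q P
  refine ⟨a, a.2, ?_⟩
  have hm : a * g' * a⁻¹ ∈ (P : Subgroup grpJ2) := by
    rw [← ha, Sylow.coe_subgroup_smul]
    exact ⟨g', hQ (Subgroup.mem_zpowers g'), rfl⟩
  rw [hPS] at hm
  exact hm

theorem pow_conj_eq_one {G : Type*} [Group G] (h g : G) (n : ℕ) :
    (h * g * h⁻¹) ^ n = 1 ↔ g ^ n = 1 := by
  rw [conj_pow, mul_inv_eq_one, mul_eq_left]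

theorem exponent_of {gidx : List (List ℕ)} {gs l : List ℕ} {par : List (ℕ × ℕ)}
    {tab : List (List ℕ)} {e p v : ℕ} (hc : sylCheck gidx gs l par tab e = true) (hp : p.Prime)
    (hv : ¬ p ^ (v + 1) ∣ 604800) (hl : l.length = p ^ v)
    {g : Equiv.Perm (Fin 100)} (hg : g ∈ grpJ2) {k : ℕ} (hk : g ^ p ^ k = 1) : g ^ e = 1 := by
  obtain ⟨S, hS, hcard, hexp, -⟩ := syl_spec hc
  obtain ⟨h, -, hm⟩ := sylow_conj hp hv hS (hcard.trans hl) hg hk
  exact (pow_conj_eq_one h g e).1 (hexp _ hm)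

/-- Every nontrivial element of prime order is conjugate to a power of a representative that
generates the same cyclic group. -/
theorem conj_rep {gidx : List (List ℕ)} {gs l : List ℕ} {par : List (ℕ × ℕ)}
    {tab : List (List ℕ)} {e p v : ℕ} (hc : sylCheck gidx gs l par tab e = true) (hp : p.Prime)
    (hv : ¬ p ^ (v + 1) ∣ 604800) (hl : l.length = p ^ v) {reps : List ℕ}
    {certs : List (ℕ × ℕ × ℕ × List ℕ)} (hcc : conjCheck l reps certs = true)
    {g : Equiv.Perm (Fin 100)} (hg : g ∈ grpJ2) (hord : orderOf g = p) :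
    ∃ h ∈ grpJ2, ∃ c, c < reps.length ∧
      ∃ m n : ℕ, h * g * h⁻¹ = O.val (reps.getD c O.one) ^ m ∧
        (O.val (reps.getD c O.one) ^ m) ^ n = O.val (reps.getD c O.one) := by
  have hhead : l.getD 0 O.one = O.one := by
    simp only [sylCheck, Bool.and_eq_true, decide_eq_true_eq] at hc
    cases l with
    | nil => rfl
    | cons a as => simpa using hc.1.1.1.1.1.1.2
  have hl_ok : ∀ c ∈ l, O.ok c = true := by
    simp only [sylCheck, Bool.and_eq_true, List.all_eq_true] at hc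
    exact hc.1.1.1.1.1.2
  obtain ⟨S, hS, hcard, -, hmem⟩ := syl_spec hc
  obtain ⟨a, ha, hm⟩ := sylow_conj hp hv hS (hcard.trans hl) hg (k := 1)
    (by rw [pow_one, ← hord, pow_orderOf_eq_one])
  obtain ⟨k, hk, hek⟩ := hmem _ hm
  rcases k with _ | k
  · exfalso
    rw [hhead, O.val_one] at hek
    have : g = 1 := by
      have := (pow_conj_eq_one a g 1).1 (by rw [pow_one, hek])
      rwa [pow_one] at this
    rw [this, orderOf_one] at hord
    exact hp.ne_one hord.symm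
  simp only [conjCheck, Bool.and_eq_true, decide_eq_true_eq, List.all_eq_true, List.mem_range,
    beq_iff_eq] at hcc
  obtain ⟨⟨hclen, hrok⟩, hall⟩ := hcc
  obtain ⟨⟨hlt, heq⟩, hpow⟩ := hall k (by omega)
  set c := certs.getD k (0, 0, 0, []) with hcdef
  obtain ⟨hqok, hqmem⟩ := prodReps_mem c.2.2.2
  set q := prodReps O levels c.2.2.2
  set r := reps.getD c.1 O.one
  have hr : O.ok r = true := getD_ok O hrok _
  obtain ⟨hp1, hp2⟩ := powC_spec O hr c.2.1
  obtain ⟨hp3, hp4⟩ := powC_spec O hr (c.2.1 * c.2.2.1)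
  refine ⟨O.val q * a, Subgroup.mul_mem _ hqmem ha, c.1, hlt, c.2.1, c.2.2.1, ?_, ?_⟩
  · have := congrArg O.val heq
    rw [O.val_mul _ _ hqok (getD_ok O hl_ok _), O.val_mul _ _ hp1 hqok, hp2, ← hek,
      ← mul_inv_eq_iff_eq_mul] at this
    rw [← this]
    group
  · rw [← pow_mul, ← hp4]
    exact val_eq_of_eqOn hp3 hr hpow

theorem cent_good {x : ℕ} {good : ℕ → Bool} (hx : O.ok x = true)
    (h : centP O x pts good [] [] levels = true) {y : Equiv.Perm (Fin 100)} (hy : y ∈ grpJ2)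
    (hc : y * O.val x = O.val x * y) : ∃ r, O.ok r = true ∧ good r = true ∧ y = O.val r :=
  centP_sound O hx (by simp) (by simp) levels_ok h y hc
    (by simpa [mulW, O.val_one, grpJ2] using hy)

/-- A commuting element, moved to a representative. -/
theorem commute_rep {gidx : List (List ℕ)} {gs l : List ℕ} {par : List (ℕ × ℕ)}
    {tab : List (List ℕ)} {e p v : ℕ} (hc : sylCheck gidx gs l par tab e = true) (hp : p.Prime)
    (hv : ¬ p ^ (v + 1) ∣ 604800) (hl : l.length = p ^ v) {reps : List ℕ}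
    {certs : List (ℕ × ℕ × ℕ × List ℕ)} (hcc : conjCheck l reps certs = true) {good : ℕ → Bool}
    (hcent : ∀ c < reps.length, centP O (reps.getD c 0) pts good [] [] levels = true)
    {g y : Equiv.Perm (Fin 100)} (hg : g ∈ grpJ2) (hord : orderOf g = p) (hy : y ∈ grpJ2)
    (hcomm : Commute y g) :
    ∃ q, O.ok q = true ∧ good q = true ∧ orderOf (O.val q) = orderOf y := by
  obtain ⟨h, hh, c, hlt, m, n, he1, he2⟩ := conj_rep hc hp hv hl hcc hg hord
  have hrok : O.ok (reps.getD c O.one) = true := by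
    simp only [conjCheck, Bool.and_eq_true, List.all_eq_true] at hcc
    exact getD_ok O hcc.1.2 _
  have hc' : Commute (h * y * h⁻¹) (O.val (reps.getD c O.one)) := by
    rw [← he2, ← he1]
    refine Commute.pow_right ?_ n
    exact hcomm.map (MulAut.conj h).toMonoidHom
  have hcen := hcent c hlt
  rw [List.getD_eq_getElem _ _ hlt] at hcen
  rw [List.getD_eq_getElem _ _ hlt] at hc' hrok
  obtain ⟨q, hq, hgood, hqe⟩ := cent_good hrok hcen
    (Subgroup.mul_mem _ (Subgroup.mul_mem _ hh hy) (Subgroup.inv_mem _ hh)) hc'.eq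
  refine ⟨q, hq, hgood, ?_⟩
  rw [← hqe]
  exact orderOf_injective (MulAut.conj h).toMonoidHom (MulAut.conj h).injective y

theorem five_free : ∀ {g y : Equiv.Perm (Fin 100)}, g ∈ grpJ2 → y ∈ grpJ2 → orderOf g = 5 →
    Commute y g → orderOf y ≠ 4 ∧ orderOf y ≠ 6 := by
  intro g y hg hy ho hc
  obtain ⟨q, hq, hgood, he⟩ := commute_rep syl5_ok (p := 5) (v := 2) (by norm_num)
    (by norm_num) (by decide +kernel) conj5_ok (good := good5) (fun c hlt => by
      have h2 : reps5.length = 2 := by decide +kernel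
      rw [h2] at hlt
      interval_cases c
      exacts [cent5_0, cent5_1]) hg ho hy hc
  simp only [good5, Bool.and_eq_true, Bool.or_eq_true, Bool.not_eq_true', ← Bool.not_eq_true,
    triv_iff hq, ← orderOf_dvd_iff_pow_eq_one, he] at hgood
  constructor <;> intro h <;> rw [h] at hgood <;> norm_num at hgood

theorem three_free : ∀ {g y : Equiv.Perm (Fin 100)}, g ∈ grpJ2 → y ∈ grpJ2 → orderOf g = 3 →
    Commute y g → orderOf y ≠ 8 := by
  intro g y hg hy ho hc
  obtain ⟨q, hq, hgood, he⟩ := commute_rep syl3_ok (p := 3) (v := 3) (by norm_num)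
    (by norm_num) (by decide +kernel) conj3_ok (good := good3) (fun c hlt => by
      have h2 : reps3.length = 2 := by decide +kernel
      rw [h2] at hlt
      interval_cases c
      exacts [cent3_0, cent3_1]) hg ho hy hc
  simp only [good3, Bool.or_eq_true, Bool.not_eq_true', ← Bool.not_eq_true,
    triv_iff hq, ← orderOf_dvd_iff_pow_eq_one, he] at hgood
  intro h
  rw [h] at hgood
  norm_num at hgood

theorem seven_free {g : Equiv.Perm (Fin 100)} (hg : g ∈ grpJ2) (h7 : 7 ∣ orderOf g) :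
    orderOf g = 7 := by
  haveI : Fact (Nat.Prime 7) := ⟨by norm_num⟩
  set x := g ^ (orderOf g / 7) with hx
  have hox : orderOf x = 7 :=
    orderOf_pow_orderOf_div (orderOf_pos g).ne' h7
  obtain ⟨h, hh, hm⟩ := sylow_conj (p := 7) (v := 1) (by norm_num) (by norm_num)
    (Subgroup.zpowers_le.2 elt7_mem)
    (by rw [Nat.card_zpowers, orderOf_elt7, pow_one])
    (Subgroup.pow_mem _ hg _) (k := 1) (g := x) (by rw [pow_one, ← hox, pow_orderOf_eq_one])
  set x' := h * x * h⁻¹ with hx'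
  have hox' : orderOf x' = 7 :=
    (orderOf_injective (MulAut.conj h).toMonoidHom (MulAut.conj h).injective x).trans hox
  have heq : Subgroup.zpowers x' = Subgroup.zpowers (O.val elt7) := by
    refine Subgroup.eq_of_le_of_card_ge (Subgroup.zpowers_le.2 hm) ?_
    rw [Nat.card_zpowers, Nat.card_zpowers, hox', orderOf_elt7]
  have hcx : Commute (h * g * h⁻¹) x' := (Commute.self_pow g _).map (MulAut.conj h).toMonoidHom
  obtain ⟨i, hi⟩ := Subgroup.mem_zpowers_iff.1 (heq ▸ Subgroup.mem_zpowers (O.val elt7))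
  have hce : Commute (h * g * h⁻¹) (O.val elt7) := hi ▸ hcx.zpow_right i
  have hd : orderOf (h * g * h⁻¹) ∣ 7 := by
    have h1 := elt7_cent _ (Subgroup.mul_mem _ (Subgroup.mul_mem _ hh hg) (Subgroup.inv_mem _ hh))
      hce.eq
    rw [← orderOf_elt7]
    exact orderOf_dvd_of_mem_zpowers h1
  rw [show orderOf (h * g * h⁻¹) = orderOf g from
    orderOf_injective (MulAut.conj h).toMonoidHom (MulAut.conj h).injective g] at hd
  exact Nat.dvd_antisymm hd h7

/-- The orders allowed by the local facts. -/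
def allowedB (n : ℕ) : Bool :=
  n % 16 == 0 || n % 9 == 0 || n % 25 == 0 || (n % 7 == 0 && n != 7) || n % 20 == 0 ||
    n % 30 == 0 || n % 24 == 0 || [1, 2, 3, 4, 5, 6, 7, 8, 10, 12, 15].contains n

theorem allowed_all : ((List.range 8).all fun a => (List.range 4).all fun b =>
    (List.range 3).all fun c => (List.range 2).all fun d =>
      allowedB (2 ^ a * 3 ^ b * 5 ^ c * 7 ^ d)) = true := by
  decide +kernel

theorem split_orders {n a b c d : ℕ} (ha : a ≤ 7) (hb : b ≤ 3) (hc : c ≤ 2) (hd : d ≤ 1)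
    (hn : n = 2 ^ a * 3 ^ b * 5 ^ c * 7 ^ d) (h16 : ¬ 16 ∣ n) (h9 : ¬ 9 ∣ n) (h25 : ¬ 25 ∣ n)
    (h7 : 7 ∣ n → n = 7) (h20 : ¬ 20 ∣ n) (h30 : ¬ 30 ∣ n) (h24 : ¬ 24 ∣ n) :
    n ∈ [1, 2, 3, 4, 5, 6, 7, 8, 10, 12, 15] := by
  have h := allowed_all
  simp only [List.all_eq_true, List.mem_range] at h
  have h' := h a (by omega) b (by omega) c (by omega) d (by omega)
  rw [← hn] at h'
  simp only [allowedB, Bool.or_eq_true, Bool.and_eq_true, beq_iff_eq, bne_iff_ne,
    List.contains_iff_mem, ← Nat.dvd_iff_mod_eq_zero] at h'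
  tauto

theorem orderOf_mem {g : Equiv.Perm (Fin 100)} (hg : g ∈ grpJ2) :
    orderOf g ∈ [1, 2, 3, 4, 5, 6, 7, 8, 10, 12, 15] := by
  have hdvd : orderOf g ∣ 604800 := by
    have := orderOf_dvd_natCard (⟨g, hg⟩ : grpJ2)
    rwa [← Subgroup.orderOf_coe, card_grpJ2] at this
  have hsub : ∀ d, d ∣ orderOf g → ∃ x, x ∈ grpJ2 ∧ orderOf x = d ∧ Commute g x := fun d hd =>
    ⟨g ^ (orderOf g / d), Subgroup.pow_mem _ hg _, orderOf_pow_orderOf_div (orderOf_pos g).ne' hd,
      Commute.self_pow g _⟩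
  have hpair : ∀ a b, a * b ∣ orderOf g → ∃ x y, x ∈ grpJ2 ∧ y ∈ grpJ2 ∧ orderOf x = a ∧
      orderOf y = b ∧ Commute y x := fun a b hd => by
    obtain ⟨x, hx, hxo, hgx⟩ := hsub a ((Dvd.intro b rfl).trans hd)
    refine ⟨x, g ^ (orderOf g / b), hx, Subgroup.pow_mem _ hg _, hxo,
      orderOf_pow_orderOf_div (orderOf_pos g).ne' ((Dvd.intro_left a rfl).trans hd), ?_⟩
    exact hgx.pow_left _
  have h16 : ¬ 16 ∣ orderOf g := fun hd => by
    obtain ⟨x, hx, hxo, -⟩ := hsub 16 hd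
    have := exponent_of syl2_ok (p := 2) (v := 7) (by norm_num) (by norm_num) (by decide +kernel)
      hx (k := 4) (by rw [show (2 : ℕ) ^ 4 = 16 from rfl, ← hxo, pow_orderOf_eq_one])
    rw [← orderOf_dvd_iff_pow_eq_one, hxo] at this
    norm_num at this
  have h9 : ¬ 9 ∣ orderOf g := fun hd => by
    obtain ⟨x, hx, hxo, -⟩ := hsub 9 hd
    have := exponent_of syl3_ok (p := 3) (v := 3) (by norm_num) (by norm_num) (by decide +kernel)
      hx (k := 2) (by rw [show (3 : ℕ) ^ 2 = 9 from rfl, ← hxo, pow_orderOf_eq_one])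
    rw [← orderOf_dvd_iff_pow_eq_one, hxo] at this
    norm_num at this
  have h25 : ¬ 25 ∣ orderOf g := fun hd => by
    obtain ⟨x, hx, hxo, -⟩ := hsub 25 hd
    have := exponent_of syl5_ok (p := 5) (v := 2) (by norm_num) (by norm_num) (by decide +kernel)
      hx (k := 2) (by rw [show (5 : ℕ) ^ 2 = 25 from rfl, ← hxo, pow_orderOf_eq_one])
    rw [← orderOf_dvd_iff_pow_eq_one, hxo] at this
    norm_num at this
  have h20 : ¬ 20 ∣ orderOf g := fun hd => by
    obtain ⟨x, y, hx, hy, hxo, hyo, hc⟩ := hpair 5 4 hd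
    exact (five_free hx hy hxo hc).1 hyo
  have h30 : ¬ 30 ∣ orderOf g := fun hd => by
    obtain ⟨x, y, hx, hy, hxo, hyo, hc⟩ := hpair 5 6 hd
    exact (five_free hx hy hxo hc).2 hyo
  have h24 : ¬ 24 ∣ orderOf g := fun hd => by
    obtain ⟨x, y, hx, hy, hxo, hyo, hc⟩ := hpair 3 8 hd
    exact three_free hx hy hxo hc hyo
  have h7 := seven_free hg
  obtain ⟨u, d7, hu, hd7, e1⟩ := Nat.dvd_mul.1
    (show orderOf g ∣ (2 ^ 7 * 3 ^ 3 * 5 ^ 2) * 7 ^ 1 by norm_num; exact hdvd)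
  obtain ⟨w, d5, hw, hd5, e2⟩ := Nat.dvd_mul.1 hu
  obtain ⟨d2, d3, hd2, hd3, e3⟩ := Nat.dvd_mul.1 hw
  obtain ⟨a, ha, rfl⟩ := (Nat.dvd_prime_pow (by norm_num)).1 hd2
  obtain ⟨b, hb, rfl⟩ := (Nat.dvd_prime_pow (by norm_num)).1 hd3
  obtain ⟨c, hc, rfl⟩ := (Nat.dvd_prime_pow (by norm_num)).1 hd5
  obtain ⟨d, hd, rfl⟩ := (Nat.dvd_prime_pow (by norm_num)).1 hd7
  subst e3 e2
  rw [← e1] at h16 h9 h25 h20 h30 h24 h7 ⊢
  exact split_orders ha hb hc hd rfl h16 h9 h25 h7 h20 h30 h24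

theorem exists_order {n : ℕ} (hn : n ∈ [1, 2, 3, 4, 5, 6, 7, 8, 10, 12, 15]) :
    ∃ g ∈ grpJ2, orderOf g = n := by
  obtain ⟨hw, hlist⟩ := wit_ok
  rw [← hlist] at hn
  obtain ⟨w, hwm, rfl⟩ := List.mem_map.1 hn
  simp only [witCheck, List.all_eq_true, Bool.and_eq_true, decide_eq_true_eq, List.mem_range,
    Bool.or_eq_true, Bool.not_eq_true', ← Bool.not_eq_true] at hw
  obtain ⟨⟨⟨h1, -⟩, hpos⟩, hmin⟩ := hw w hwm
  obtain ⟨hq, hqm⟩ := prodReps_mem w.2
  refine ⟨_, hqm, (orderOf_eq_iff hpos).2 ⟨(triv_iff hq _).1 h1, fun m hm hm0 he => ?_⟩⟩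
  rcases hmin m hm with h | h
  · exact absurd (Nat.eq_of_beq_eq_true h) (by omega)
  · exact h ((triv_iff hq _).2 he)

/-- The element orders of the Hall-Janko group. -/
theorem orders_J2 : Set.range (orderOf : Cfsg.Spor.J2 → ℕ) = Spectrum.S8Twins.eightOrders := by
  obtain ⟨e⟩ := Ico.j2_equiv
  ext n
  simp only [Set.mem_range]
  constructor
  · rintro ⟨x, rfl⟩
    have h := orderOf_mem (e x).2
    rw [Subgroup.orderOf_coe, e.orderOf_eq] at h
    simpa [Spectrum.S8Twins.eightOrders] using h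
  · intro hn
    obtain ⟨g, hg, rfl⟩ := exists_order (n := n)
      (by simpa [Spectrum.S8Twins.eightOrders] using hn)
    exact ⟨e.symm ⟨g, hg⟩, by rw [e.symm.orderOf_eq, Subgroup.orderOf_mk]⟩

theorem spectrum_eq :
    Set.range (orderOf : Equiv.Perm (Fin 8) → ℕ) = Set.range (orderOf : Cfsg.Spor.J2 → ℕ) :=
  Spectrum.S8Twins.orders_S8.trans orders_J2.symm

end CfsgLib.J2Spectrum
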